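import Groth.Agent.ExtLoc7.Basic
import Groth.Agent.QCoh.FT
import Groth.Agent.QCoh.Qcqs
import Groth.Prelude.Def_ExtPow2

/-!
# Exterior powers of quasi-coherent modules are quasi-coherent
-/

set_option autoImplicit false
set_option linter.style.haveILetI false
set_option backward.isDefEq.respectTransparency false
set_option backward.isDefEq.respectTransparency.types false

universe u

open CategoryTheory AlgebraicGeometry Opposite TopologicalSpace

namespace Groth.Agent.ExtLoc7

variable {X : Scheme.{u}} {E L : X.Modules} {p : ℕ}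

theorem isQCoh_of_isExtPow (hE : Coh.IsQCoh E) (hL : ExtPow.IsExtPow p E L) : Coh.IsQCoh L := by
  obtain ⟨φ, hφ⟩ := hL
  have main : ∀ (U : X.Opens) (hU : IsAffineOpen U) (g : Γ(X, U)),
      letI := QCoh.basicModule g L
      IsLocalizedModule (Submonoid.powers g) (QCoh.basicRes g L) := by
    intro U hU g
    letI := QCoh.basicModule g E
    letI := QCoh.basicModule g L
    haveI := QCoh.isLocalizedModule_basicRes g hE hU
    haveI := hU.isLocalization_basicOpen g
    haveI : IsScalarTower Γ(X, U) Γ(X, X.basicOpen g) Γ(E, X.basicOpen g) :=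
      IsScalarTower.of_algebraMap_smul fun _ _ => rfl
    haveI : IsScalarTower Γ(X, U) Γ(X, X.basicOpen g) Γ(L, X.basicOpen g) :=
      IsScalarTower.of_algebraMap_smul fun _ _ => rfl
    let hV : X.affineOpens := ⟨X.basicOpen g, hU.basicOpen g⟩
    let eU : Γ(L, U) ≃ₗ[Γ(X, U)] ↥(⋀[Γ(X, U)]^p Γ(E, U)) := φ ⟨U, hU⟩
    let eV : ↥(⋀[Γ(X, X.basicOpen g)]^p Γ(E, X.basicOpen g)) ≃ₗ[Γ(X, U)] Γ(L, X.basicOpen g) :=
      LinearEquiv.restrictScalars Γ(X, U)
        (show ↥(⋀[Γ(X, X.basicOpen g)]^p Γ(E, X.basicOpen g)) ≃ₗ[Γ(X, X.basicOpen g)] Γ(L, X.basicOpen g) from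
          (φ hV).symm)
    haveI := isLocalizedModule_extMap (Submonoid.powers g) (B' := Γ(X, X.basicOpen g)) (QCoh.basicRes g E) p
    have heq : QCoh.basicRes g L =
        (eV.toLinearMap ∘ₗ extMap Γ(X, X.basicOpen g) (QCoh.basicRes g E) p) ∘ₗ eU.toLinearMap := by
      refine LinearMap.ext fun z => ?_
      obtain ⟨y, rfl⟩ := eU.symm.surjective z
      simp only [LinearMap.comp_apply, LinearEquiv.coe_coe, LinearEquiv.apply_symm_apply]
      have hy : y ∈ Submodule.span Γ(X, U) (Set.range (exteriorPower.ιMulti Γ(X, U) p (M := Γ(E, U)))) := by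
        rw [exteriorPower.ιMulti_span]; trivial
      induction hy using Submodule.span_induction with
      | mem y hy =>
        obtain ⟨v, rfl⟩ := hy
        rw [extMap_ιMulti]
        exact hφ ⟨U, hU⟩ hV (X.basicOpen_le g) v
      | zero => simp only [map_zero]
      | add a b _ _ ha hb => simp only [map_add, ha, hb]
      | smul r a _ ha => simp only [map_smul, ha]
    rw [heq]
    infer_instance
  refine QCoh.isQCoh_of_sections (fun U hU g s => ?_) (fun U hU g t ht => ?_)
  · letI := QCoh.basicModule g L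
    haveI := main U hU g
    obtain ⟨⟨t, ⟨_, n, rfl⟩⟩, ht⟩ := IsLocalizedModule.surj (Submonoid.powers g) (QCoh.basicRes g L) s
    refine ⟨n, t, ?_⟩
    rw [← map_pow]
    exact ht.symm
  · letI := QCoh.basicModule g L
    haveI := main U hU g
    have ht' : QCoh.basicRes g L t = QCoh.basicRes g L 0 := by
      rw [map_zero]; exact ht
    obtain ⟨⟨_, n, rfl⟩, hn⟩ := IsLocalizedModule.exists_of_eq (S := Submonoid.powers g) ht'
    exact ⟨n, hn.trans (smul_zero _)⟩

end Groth.Agent.ExtLoc7
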