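import Mathlib.LinearAlgebra.ExteriorPower.Basic
import Mathlib.Algebra.Module.LocalizedModule.Basic
import Mathlib.RingTheory.Localization.Module
import Mathlib.RingTheory.IsTensorProduct
import Mathlib.RingTheory.Localization.BaseChange
import Mathlib.Algebra.Module.LocalizedModule.Exact

/-!
# Exterior powers commute with localisation
-/

set_option autoImplicit false

set_option backward.isDefEq.respectTransparency false
set_option backward.isDefEq.respectTransparency.types false
universe u v w z

open exteriorPower
open scoped TensorProduct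

namespace Groth.Agent.ExtLoc7

variable {B : Type u} [CommRing B] (S : Submonoid B) {B' : Type v} [CommRing B'] [Algebra B B']
  [IsLocalization S B'] {M : Type w} [AddCommGroup M] [Module B M] {M' : Type z} [AddCommGroup M']
  [Module B M'] [Module B' M'] [IsScalarTower B B' M'] (f : M →ₗ[B] M') [IsLocalizedModule S f]
  (p : ℕ)

variable (B') in
/-- The map `⋀^p M → ⋀^p M'`. -/
noncomputable def extMap : ⋀[B]^p M →ₗ[B] ⋀[B']^p M' :=
  alternatingMapLinearEquiv
    { toFun := fun v => ιMulti B' p (fun i => f (v i))
      map_update_add' := fun v i x y => by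
        intros
        have h : ∀ z, (fun j => f (Function.update v i z j)) = Function.update (fun j => f (v j)) i (f z) :=
          fun z => funext fun j => Function.apply_update (fun _ => f) v i z j
        simp only [h, map_add, AlternatingMap.map_update_add]
      map_update_smul' := fun v i c x => by
        intros
        have h : ∀ z, (fun j => f (Function.update v i z j)) = Function.update (fun j => f (v j)) i (f z) :=
          fun z => funext fun j => Function.apply_update (fun _ => f) v i z j
        simp only [h, map_smul]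
        rw [← algebraMap_smul B' c (f x), AlternatingMap.map_update_smul, algebraMap_smul]
      map_eq_zero_of_eq' := fun v i j hv hij =>
        AlternatingMap.map_eq_zero_of_eq _ (fun k => f (v k)) (congrArg f hv) hij }

@[simp] lemma extMap_ιMulti (v : Fin p → M) :
    extMap B' f p (ιMulti B p v) = ιMulti B' p (fun i => f (v i)) := by
  simp [extMap]

section Extend

variable {N : Type*} [AddCommGroup N] [Module B N] [Module B' N] [IsScalarTower B B' N]
  (φ : M [⋀^Fin p]→ₗ[B] N)

/-- The value at fractions. -/
noncomputable def ext0 (v : Fin p → M') : N :=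
  Ring.inverse (algebraMap B B' (∏ i, ((IsLocalizedModule.surj S f (v i)).choose.2 : B))) •
    φ (fun i => (IsLocalizedModule.surj S f (v i)).choose.1)

variable (B') in
include B' in
lemma smul_injective {c : B} (hc : c ∈ S) : Function.Injective (fun x : N => c • x) := fun x y h => by
  have hu := IsLocalization.map_units B' (⟨c, hc⟩ : S)
  simp only [← algebraMap_smul B' c] at h
  exact hu.smul_left_cancel.1 h

lemma smul_ext0 (v : Fin p → M') (m : Fin p → M) (s : Fin p → S)
    (h : ∀ i, (s i : B) • v i = f (m i)) :
    (∏ i, (s i : B)) • ext0 S f p φ (B' := B') v = φ m := by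
  let r := fun i => (IsLocalizedModule.surj S f (v i)).choose
  have hr : ∀ i, ((r i).2 : B) • v i = f (r i).1 := fun i =>
    (IsLocalizedModule.surj S f (v i)).choose_spec
  have he : ∀ i, ∃ c : S, (c : B) • (((r i).2 : B) • m i) = (c : B) • ((s i : B) • (r i).1) := fun i => by
    apply IsLocalizedModule.exists_of_eq (f := f) (S := S)
    rw [map_smul, map_smul, ← h, ← hr, smul_comm]
  choose c hc using he
  have h1 := congrArg φ (funext hc)
  rw [φ.map_smul_univ, φ.map_smul_univ, φ.map_smul_univ, φ.map_smul_univ] at h1
  have h2 := smul_injective S B' (N := N) (prod_mem fun i _ => (c i).2) h1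
  refine smul_injective S B' (N := N) (prod_mem (t := Finset.univ) fun i _ => (r i).2.2) ?_
  show (∏ i, ((r i).2 : B)) • (∏ i, (s i : B)) • _ = (∏ i, ((r i).2 : B)) • φ m
  rw [h2, smul_comm, ext0, ← algebraMap_smul B' (∏ i, ((r i).2 : B)) (_ • _ : N), smul_smul,
    Ring.mul_inverse_cancel _ (IsLocalization.map_units B' (⟨_, prod_mem (t := Finset.univ) fun i _ => (r i).2.2⟩ : S)),
    one_smul]

lemma map_update_add_ext0 (v : Fin p → M') (i : Fin p) (x y : M') :
    ext0 S f p φ (B' := B') (Function.update v i (x + y)) =
      ext0 S f p φ (B' := B') (Function.update v i x) + ext0 S f p φ (B' := B') (Function.update v i y) := by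
  choose r hr using fun j => IsLocalizedModule.surj S f (v j)
  obtain ⟨⟨m₁, s₁⟩, h₁⟩ := IsLocalizedModule.surj S f x
  obtain ⟨⟨m₂, s₂⟩, h₂⟩ := IsLocalizedModule.surj S f y
  change (s₁ : B) • x = f m₁ at h₁
  change (s₂ : B) • y = f m₂ at h₂
  let s : Fin p → S := Function.update (fun j => (r j).2) i (s₁ * s₂)
  let m : Fin p → M := fun j => (r j).1
  have key : ∀ (z : M') (n : M), ((s₁ * s₂ : S) : B) • z = f n →
      (∏ j, (s j : B)) • ext0 S f p φ (B' := B') (Function.update v i z) = φ (Function.update m i n) :=
    fun z n hz => smul_ext0 S f p φ _ _ s fun j => by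
      rcases eq_or_ne j i with rfl | hj
      · simpa [s] using hz
      · simp only [s, m, Function.update_of_ne hj]
        exact hr j
  refine smul_injective S B' (N := N) (prod_mem (t := Finset.univ) fun j _ => (s j).2) ?_
  show (∏ j, (s j : B)) • _ = (∏ j, (s j : B)) • _
  rw [smul_add, key x ((s₂ : B) • m₁) (by rw [Submonoid.coe_mul, map_smul, ← h₁, smul_smul, mul_comm]),
    key y ((s₁ : B) • m₂) (by rw [Submonoid.coe_mul, map_smul, ← h₂, smul_smul]),
    key (x + y) ((s₂ : B) • m₁ + (s₁ : B) • m₂) (by
      rw [Submonoid.coe_mul, map_add, map_smul, map_smul, ← h₁, ← h₂, smul_add, smul_smul, smul_smul,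
        mul_comm (s₂ : B)]),
    φ.map_update_add]

lemma map_update_smul_ext0 (v : Fin p → M') (i : Fin p) (a : B') (x : M') :
    ext0 S f p φ (B' := B') (Function.update v i (a • x)) =
      a • ext0 S f p φ (B' := B') (Function.update v i x) := by
  obtain ⟨⟨b, t⟩, ha⟩ := IsLocalization.surj S a
  choose r hr using fun j => IsLocalizedModule.surj S f (v j)
  obtain ⟨⟨m₁, s₁⟩, h₁⟩ := IsLocalizedModule.surj S f x
  change (s₁ : B) • x = f m₁ at h₁
  change a * algebraMap B B' (t : B) = algebraMap B B' b at ha
  let m : Fin p → M := fun j => (r j).1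
  have key : ∀ (z : M') (n : M) (σ : S), (σ : B) • z = f n →
      (∏ j, ((Function.update (fun j => (r j).2) i σ j : S) : B)) •
          ext0 S f p φ (B' := B') (Function.update v i z) = φ (Function.update m i n) :=
    fun z n σ hz => smul_ext0 S f p φ _ _ _ fun j => by
      rcases eq_or_ne j i with rfl | hj
      · simpa using hz
      · simp only [m, Function.update_of_ne hj]
        exact hr j
  have e1 := key (a • x) (b • m₁) (s₁ * t) (by
    rw [Submonoid.coe_mul, map_smul, ← h₁, mul_smul, smul_comm (t : B) a, ← algebraMap_smul B' (t : B),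
      ← algebraMap_smul B' b, smul_smul, mul_comm, ← ha, mul_comm, smul_comm, mul_smul])
  have e2 := key x m₁ s₁ h₁
  rw [φ.map_update_smul] at e1
  rw [← e2] at e1
  have hp : ∏ j, ((Function.update (fun j => (r j).2) i (s₁ * t) j : S) : B) =
      (∏ j, ((Function.update (fun j => (r j).2) i s₁ j : S) : B)) * (t : B) := by
    have e : ∀ σ : S, (fun j => ((Function.update (fun j => (r j).2) i σ j : S) : B)) =
        Function.update (fun j => ((r j).2 : B)) i (σ : B) := fun σ =>
      funext fun j => Function.apply_update (fun _ (σ : S) => (σ : B)) _ i σ j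
    rw [e, e, Finset.prod_update_of_mem (Finset.mem_univ i), Finset.prod_update_of_mem (Finset.mem_univ i),
      Submonoid.coe_mul]
    ring
  rw [hp, mul_smul, smul_comm b] at e1
  have hP := prod_mem (S := S) (t := Finset.univ)
    (f := fun j => ((Function.update (fun j => (r j).2) i s₁ j : S) : B)) fun j _ => SetLike.coe_mem _
  have e3 := smul_injective S B' (N := N) hP e1
  refine smul_injective S B' (N := N) t.2 (e3.trans ?_)
  show b • _ = (t : B) • a • _
  rw [← algebraMap_smul B' b, ← ha, mul_smul, algebraMap_smul, smul_comm]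

lemma map_eq_zero_ext0 (v : Fin p → M') (i j : Fin p) (hv : v i = v j) (hij : i ≠ j) :
    ext0 S f p φ (B' := B') v = 0 := by
  rw [ext0, φ.map_eq_zero_of_eq _ _ hij, smul_zero]
  exact congrArg (fun z => (IsLocalizedModule.surj S f z).choose.1) hv

/-- Extension of an alternating map to fractions. -/
noncomputable def extAlt : M' [⋀^Fin p]→ₗ[B'] N where
  toFun := ext0 S f p φ (B' := B')
  map_update_add' := fun v i x y => by
    intros
    convert map_update_add_ext0 S f p φ (B' := B') v i x y
  map_update_smul' := fun v i a x => by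
    intros
    convert map_update_smul_ext0 S f p φ (B' := B') v i a x
  map_eq_zero_of_eq' := map_eq_zero_ext0 S f p φ (B' := B')

lemma extAlt_comp (m : Fin p → M) : extAlt S f p φ (B' := B') (fun i => f (m i)) = φ m := by
  have := smul_ext0 S f p φ (B' := B') (fun i => f (m i)) m (fun _ => 1) fun i => by simp
  simpa [extAlt] using this

end Extend

lemma exists_preimage (x : ⋀[B']^p M') :
    ∃ (y : ⋀[B]^p M) (s : S), (s : B) • x = extMap B' f p y := by
  have hx : x ∈ Submodule.span B' (Set.range (ιMulti B' p (M := M'))) := by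
    rw [ιMulti_span]; trivial
  induction hx using Submodule.span_induction with
  | mem x hx =>
    obtain ⟨v, rfl⟩ := hx
    choose r hr using fun j => IsLocalizedModule.surj S f (v j)
    refine ⟨ιMulti B p (fun j => (r j).1), ⟨_, prod_mem (t := Finset.univ) fun j _ => (r j).2.2⟩, ?_⟩
    rw [extMap_ιMulti]
    show (∏ j, ((r j).2 : B)) • _ = _
    rw [← algebraMap_smul B' (∏ j, ((r j).2 : B)), map_prod, ← AlternatingMap.map_smul_univ]
    congr 1
    funext j
    exact (algebraMap_smul B' ((r j).2 : B) (v j)).trans (hr j)
  | zero => exact ⟨0, 1, by simp⟩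
  | add x y _ _ hx hy =>
    obtain ⟨x', s, hx'⟩ := hx
    obtain ⟨y', t, hy'⟩ := hy
    refine ⟨(t : B) • x' + (s : B) • y', s * t, ?_⟩
    rw [map_add, map_smul, map_smul, ← hx', ← hy', Submonoid.coe_mul, smul_add, smul_smul, smul_smul,
      mul_comm (t : B)]
  | smul a x _ hx =>
    obtain ⟨x', s, hx'⟩ := hx
    obtain ⟨⟨b, t⟩, ha⟩ := IsLocalization.surj S a
    change a * algebraMap B B' (t : B) = algebraMap B B' b at ha
    refine ⟨b • x', t * s, ?_⟩
    rw [map_smul, ← hx', Submonoid.coe_mul, mul_smul, smul_comm (s : B) a,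
      ← algebraMap_smul B' (t : B), smul_smul, mul_comm, ha, algebraMap_smul]

/-- Exterior powers commute with localisation. -/
theorem isLocalizedModule_extMap : IsLocalizedModule S (extMap B' f p) := by
  constructor
  · intro s
    rw [Module.End.isUnit_iff]
    refine ⟨fun x y h => ?_, fun x => ?_⟩
    · exact smul_injective S B' (N := ⋀[B']^p M') s.2 h
    · refine ⟨Ring.inverse (algebraMap B B' (s : B)) • x, ?_⟩
      show (s : B) • (Ring.inverse (algebraMap B B' (s : B)) • x) = x
      rw [← algebraMap_smul B' (s : B) (Ring.inverse (algebraMap B B' (s : B)) • x), smul_smul, Ring.mul_inverse_cancel _ (IsLocalization.map_units B' s), one_smul]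
  · intro x
    obtain ⟨y, s, h⟩ := exists_preimage S f p x
    exact ⟨(y, s), h⟩
  · intro x₁ x₂ h
    let j : ⋀[B]^p M →ₗ[B] B' ⊗[B] ⋀[B]^p M := TensorProduct.mk B B' (⋀[B]^p M) 1
    haveI : IsLocalizedModule S j := (isLocalizedModule_iff_isBaseChange S B' _).2 (TensorProduct.isBaseChange B (⋀[B]^p M) B')
    let φ : M [⋀^Fin p]→ₗ[B] (B' ⊗[B] ⋀[B]^p M) := j.compAlternatingMap (ιMulti B p)
    let ψ : ⋀[B']^p M' →ₗ[B'] (B' ⊗[B] ⋀[B]^p M) := alternatingMapLinearEquiv (extAlt S f p φ (B' := B'))
    have hψ : (ψ.restrictScalars B).comp (extMap B' f p) = j := by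
      refine exteriorPower.linearMap_ext (AlternatingMap.ext fun v => ?_)
      show ψ (extMap B' f p (ιMulti B p v)) = j (ιMulti B p v)
      rw [extMap_ιMulti]
      show alternatingMapLinearEquiv (extAlt S f p φ) (ιMulti B' p fun i => f (v i)) = _
      rw [alternatingMapLinearEquiv_apply_ιMulti, extAlt_comp]
      rfl
    refine IsLocalizedModule.exists_of_eq (f := j) ?_
    rw [← hψ, LinearMap.comp_apply, LinearMap.comp_apply, h]

end Groth.Agent.ExtLoc7
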